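import Cfsg.Agent.H419.EP.Soc
import Cfsg.Agent.H419.EP.Targets
import Cfsg.Agent.H117.EP.ModelPSL
import Cfsg.Agent.H173.EP.LineBound
import Cfsg.Agent.H729.EPM.Crude
import Cfsg.Agent.S0280
import Cfsg.Agent.S0813
import Cfsg.Agent.S0265
import Cfsg.Agent.S2061
import Cfsg.Agent.S2062
import Cfsg.Agent.ClassicalGeometry.PSL2Basic
import Cfsg.Agent.MTwelveType.SylowModel
import Cfsg.Agent.SporadicA.MathieuRecog

/-!
# S3499, row S5842: `U_10(q)`, residual class (helper587, task 5983)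

`row_of`: from the list S5842 (`R5842`), the bounds `A.index ≤ 10 ^ 38` for the socles `M_12`, `M_22` and the three own
characteristic cases `U_3(q)`, `U_4(q)`, `U_5(q) < U_10(q)`. The socle `L_2(19)` is done here (`index_l219`).
-/

set_option autoImplicit false

namespace Cfsg.Agent.H587.EP.TenU

open Subgroup Cfsg.Agent.H284 Cfsg.Agent.H419.EP
open scoped MatrixGroups

section

variable {Q Q' : Type*} [Group Q] [Group Q'] {ι : Type} [Fintype ι] [DecidableEq ι] {F : Type*} [Field F]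
  {S : Subgroup (GL ι F)}

/-- Two groups with a model on the same `S` are isomorphic. -/
theorem equiv_of_models (m : Model Q S) (m' : Model Q' S) : Nonempty (Q ≃* Q') := by
  have hk : m.π.ker = m'.π.ker := by
    ext s
    rw [MonoidHom.mem_ker, MonoidHom.mem_ker, m.ker, m'.ker]
  exact ⟨(QuotientGroup.quotientKerEquivOfSurjective m.π m.surj).symm.trans
    ((QuotientGroup.quotientMulEquivOfEq hk).trans (QuotientGroup.quotientKerEquivOfSurjective m'.π m'.surj))⟩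

end

/-! ### the order -/

section

variable {F : Type} [Field F] [Fintype F] {q : ℕ}

/-- order formula -/
theorem card_ten (hF : Fintype.card F = q ^ 2) {Q : Type} [Group Q]
    (m : Model Q (Cfsg.GU 10 F q ⊓ Cfsg.Geo.specialLinear (Fin 10) F)) :
    Nat.gcd 10 (q + 1) * Nat.card Q =
      q ^ 45 * ((q ^ 2 - 1) * (q ^ 3 + 1) * (q ^ 4 - 1) * (q ^ 5 + 1) * (q ^ 6 - 1) * (q ^ 7 + 1) * (q ^ 8 - 1) *
        (q ^ 9 + 1) * (q ^ 10 - 1)) := by
  obtain ⟨m'⟩ := Cfsg.Agent.H117.EP.model_PSU (n := 10) hF (by norm_num)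
  obtain ⟨e⟩ := equiv_of_models m m'
  have h := S0280.result hF 10 (by norm_num)
  rw [← Nat.card_congr e.toEquiv] at h
  simp only [Finset.prod_range_succ, Finset.prod_range_zero, one_mul, Nat.even_iff] at h
  norm_num at h
  apply Nat.eq_of_mul_eq_mul_left (show 0 < q + 1 by omega)
  calc (q + 1) * (Nat.gcd 10 (q + 1) * Nat.card Q) = Nat.gcd 10 (q + 1) * ((q + 1) * Nat.card Q) := by ring
    _ = _ := h
    _ = _ := by ring

/-- `|U_10(q)| ≥ 10 ^ 46` for `q ≥ 3` -/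
theorem card_ten_le (hF : Fintype.card F = q ^ 2) (hq : 3 ≤ q) {Q : Type} [Group Q]
    (m : Model Q (Cfsg.GU 10 F q ⊓ Cfsg.Geo.specialLinear (Fin 10) F)) : 10 ^ 46 ≤ Nat.card Q := by
  have h := card_ten hF m
  have h1 : Nat.gcd 10 (q + 1) ≤ 10 := Nat.gcd_le_left _ (by norm_num)
  have hp : ∀ k : ℕ, 3 ^ k ≤ q ^ k := fun k => Nat.pow_le_pow_left hq k
  have h2 : 3 ^ 45 * ((3 ^ 2 - 1) * (3 ^ 3 + 1) * (3 ^ 4 - 1) * (3 ^ 5 + 1) * (3 ^ 6 - 1) * (3 ^ 7 + 1) * (3 ^ 8 - 1) *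
        (3 ^ 9 + 1) * (3 ^ 10 - 1)) ≤
      q ^ 45 * ((q ^ 2 - 1) * (q ^ 3 + 1) * (q ^ 4 - 1) * (q ^ 5 + 1) * (q ^ 6 - 1) * (q ^ 7 + 1) * (q ^ 8 - 1) *
        (q ^ 9 + 1) * (q ^ 10 - 1)) := by
    have ha : ∀ k : ℕ, 3 ^ k - 1 ≤ q ^ k - 1 := fun k => Nat.sub_le_sub_right (hp k) _
    have hb : ∀ k : ℕ, 3 ^ k + 1 ≤ q ^ k + 1 := fun k => Nat.add_le_add_right (hp k) _
    exact Nat.mul_le_mul (hp _) (Nat.mul_le_mul (Nat.mul_le_mul (Nat.mul_le_mul (Nat.mul_le_mul (Nat.mul_le_mul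
      (Nat.mul_le_mul (Nat.mul_le_mul (Nat.mul_le_mul (ha 2) (hb 3)) (ha 4)) (hb 5)) (ha 6)) (hb 7)) (ha 8)) (hb 9))
      (ha 10))
  rw [← h] at h2
  have h3 := h2.trans (Nat.mul_le_mul_right _ h1)
  norm_num at h3
  omega

end

/-! ### automorphism groups -/

theorem card_aut_le (G : Type*) [Group G] [Finite G] : Nat.card (MulAut G) ≤ Nat.card G * Nat.card (Cfsg.Out G) := by
  have h1 : Nat.card (Cfsg.Inn G) ≤ Nat.card G :=
    Nat.card_le_card_of_surjective (MulAut.conj : G →* MulAut G).rangeRestrict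
      (MulAut.conj : G →* MulAut G).rangeRestrict_surjective
  rw [← (Cfsg.Inn G).card_mul_index]
  exact Nat.mul_le_mul_right _ h1

theorem finite_m12 : Finite Cfsg.Spor.M12 :=
  Nat.finite_of_card_ne_zero (by rw [Cfsg.Agent.MTwelveType.SylowModel.card_M12]; norm_num)

theorem finite_m22 : Finite Cfsg.Spor.M22 :=
  Nat.finite_of_card_ne_zero (by rw [Cfsg.Agent.SporadicA.MathieuRecog.card_M22]; norm_num)

theorem aut_m12 : Nat.card (MulAut Cfsg.Spor.M12) ≤ 190080 := by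
  have := finite_m12
  refine (card_aut_le _).trans ?_
  rw [S2061.result, Cfsg.Agent.MTwelveType.SylowModel.card_M12]

theorem aut_m22 : Nat.card (MulAut Cfsg.Spor.M22) ≤ 887040 := by
  have := finite_m22
  refine (card_aut_le _).trans ?_
  rw [S2062.result, Cfsg.Agent.SporadicA.MathieuRecog.card_M22]

theorem aut_l219 : Nat.card (MulAut (Matrix.ProjectiveSpecialLinearGroup (Fin 2) (ZMod 19))) = 6840 := by
  have : Fact (Nat.Prime 19) := ⟨by norm_num⟩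
  rw [Cfsg.Agent.S0813.result 19 1 le_rfl (by rw [ZMod.card, pow_one]) 2 le_rfl (fun _ => by norm_num),
    Cfsg.Agent.S0265.result, Cfsg.Agent.ClassicalGeometry.PSL2Basic.card_SL2, ZMod.card]
  norm_num

/-! ### the index bounds -/

theorem index_ge {Q : Type*} [Group Q] [Finite Q] {A : Subgroup Q} {L : Type*} [Group L] [Finite L] (h : HasSoc A L)
    {c : ℕ} (hc : Nat.card (MulAut L) ≤ c) {B : ℕ} (hB : A.index ≤ B) : Nat.card Q ≤ c * B := by
  rw [(Subgroup.card_mul_index A).symm]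
  exact Nat.mul_le_mul (h.card_le.trans hc) hB

/-- The index bound from the number of generators: `|Q : A| ≤ 1 + 2 N ^ (k + 1)` if `|A|` divides `N` and `N` has at
most `k + 1` prime factors. -/
theorem index_le_gen {Q : Type*} [Group Q] [Finite Q] (hs : IsSimpleGroup Q) {A : Subgroup Q}
    {Γ : Subgroup (MulAut Q)} (h : EPT A Γ) {N k : ℕ} (hN0 : N ≠ 0) (hN : Nat.card A ∣ N)
    (hk : ArithmeticFunction.cardFactors N ≤ k + 1) : A.index ≤ 1 + N ^ k * (2 * N) := by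
  have h1 := Cfsg.Agent.H173.EP.ub1 hs h (μ := 1) one_pos (fun x _ => Nat.card_pos)
  have h2 := Nat.le_of_dvd (Nat.pos_of_ne_zero hN0) hN
  refine h1.trans (Nat.add_le_add_left (Nat.mul_le_mul ?_ ?_) 1)
  · refine le_trans ?_ ((H729.EPM.ncard_lt_le (A := A) (k := k)
      ((H729.EPM.cardFactors_le hN0 hN).trans hk)).trans (Nat.pow_le_pow_left h2 k))
    refine Set.ncard_le_ncard ?_ (Set.toFinite _)
    rintro M ⟨x, hx, rfl⟩
    have hle : A ⊓ cj x A ≤ A := inf_le_left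
    refine lt_of_le_of_ne hle fun e => hx ?_
    have h1 : ∀ a ∈ A, x⁻¹ * a * x ∈ A := fun a ha => by
      have h2 : a ∈ A ⊓ cj x A := by rw [e]; exact ha
      exact mem_cj.1 (mem_inf.1 h2).2
    have h2 := h.selfnorm x⁻¹ (fun a ha => by rw [inv_inv]; exact h1 a ha)
    exact (A.inv_mem_iff).1 h2
  · rw [Nat.div_one]
    omega

theorem index_l219 {Q : Type*} [Group Q] [Finite Q] (hs : IsSimpleGroup Q) {A : Subgroup Q}
    {Γ : Subgroup (MulAut Q)} (h : EPT A Γ)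
    (hL : HasSoc A (Matrix.ProjectiveSpecialLinearGroup (Fin 2) (ZMod 19))) : A.index ≤ 10 ^ 38 := by
  have : Fact (Nat.Prime 19) := ⟨by norm_num⟩
  have hdvd : Nat.card A ∣ 6840 := by
    obtain ⟨f, hf⟩ := hL.exists_hom
    rw [← aut_l219]
    exact Subgroup.card_dvd_of_injective f hf
  have hk : ArithmeticFunction.cardFactors 6840 ≤ 6 + 1 := by
    have e : 6840 = 2 * 2 * 2 * 3 * 3 * 5 * 19 := by norm_num
    rw [e]
    simp only [ArithmeticFunction.cardFactors_mul, ne_eq, OfNat.ofNat_ne_zero, not_false_eq_true, mul_eq_zero, or_self]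
    rw [ArithmeticFunction.cardFactors_apply_prime Nat.prime_two, ArithmeticFunction.cardFactors_apply_prime Nat.prime_three,
      ArithmeticFunction.cardFactors_apply_prime Nat.prime_five, ArithmeticFunction.cardFactors_apply_prime (by norm_num)]
  refine (index_le_gen hs h (by norm_num) hdvd hk).trans (by norm_num)

/-! ### the row -/

/-- The statement S5842 (`S5842.result`). -/
def R5842 (F : Type) [Field F] [Fintype F] (q : ℕ) : Prop :=
  ∀ H : Subgroup (Matrix.GeneralLinearGroup (Fin 10) F),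
    Cfsg.Geo.IsMaximalIn (Cfsg.GU 10 F q ⊓ Cfsg.Geo.specialLinear (Fin 10) F) H → Cfsg.Geo.InUnitaryResidualClass H →
    ∃ (P : Subgroup (Matrix.GeneralLinearGroup (Fin 10) F)) (p : ℕ), Cfsg.Geo.IsResidualCore H P ∧ p.Prime ∧ CharP F p ∧
    ((Nonempty ((P ⧸ (Cfsg.Geo.scalars (Fin 10) F).subgroupOf P) ≃* Matrix.ProjectiveSpecialLinearGroup (Fin 2) (ZMod 19)) ∧ q = p ∧ p ≠ 2 ∧ (p % 19 = 2 ∨ p % 19 = 3 ∨ p % 19 = 8 ∨ p % 19 = 10 ∨ p % 19 = 12 ∨ p % 19 = 13 ∨ p % 19 = 14 ∨ p % 19 = 15 ∨ p % 19 = 18)) ∨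
     (Cfsg.Spor.IsoM12 (P ⧸ (Cfsg.Geo.scalars (Fin 10) F).subgroupOf P) ∧ q = p ∧ (p % 8 = 5 ∨ p % 8 = 7)) ∨
     (Cfsg.Spor.IsoM22 (P ⧸ (Cfsg.Geo.scalars (Fin 10) F).subgroupOf P) ∧ q = p ∧ (p % 28 = 5 ∨ p % 28 = 13 ∨ p % 28 = 17 ∨ p % 28 = 3 ∨ p % 28 = 19 ∨ p % 28 = 27)) ∨
     (Nonempty ((P ⧸ (Cfsg.Geo.scalars (Fin 10) F).subgroupOf P) ≃* Cfsg.PSU 3 F q) ∧ 5 ≤ p) ∨
     (Nonempty ((P ⧸ (Cfsg.Geo.scalars (Fin 10) F).subgroupOf P) ≃* Cfsg.PSU 4 F q) ∧ 3 ≤ p) ∨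
     Nonempty ((P ⧸ (Cfsg.Geo.scalars (Fin 10) F).subgroupOf P) ≃* Cfsg.PSU 5 F q))

/-- **Row S5842.** -/
theorem row_of
    (hM12 : ∀ {Q : Type} [Group Q] [Finite Q], IsSimpleGroup Q → ∀ {A : Subgroup Q} {Γ : Subgroup (MulAut Q)},
      EPT A Γ → HasSoc A ↥Cfsg.Spor.M12 → A.index ≤ 10 ^ 38)
    (hM22 : ∀ {Q : Type} [Group Q] [Finite Q], IsSimpleGroup Q → ∀ {A : Subgroup Q} {Γ : Subgroup (MulAut Q)},
      EPT A Γ → HasSoc A ↥Cfsg.Spor.M22 → A.index ≤ 10 ^ 38)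
    (hown3 : ∀ {Q : Type} [Group Q] [Finite Q], IsSimpleGroup Q → ∀ {A : Subgroup Q} {Γ : Subgroup (MulAut Q)},
      EPT A Γ → ∀ {F : Type} [Field F] [Fintype F] {q p : ℕ}, Fintype.card F = q ^ 2 → p.Prime → CharP F p → 5 ≤ p →
      Model Q (Cfsg.GU 10 F q ⊓ Cfsg.Geo.specialLinear (Fin 10) F) → HasSoc A (Cfsg.PSU 3 F q) → False)
    (hown4 : ∀ {Q : Type} [Group Q] [Finite Q], IsSimpleGroup Q → ∀ {A : Subgroup Q} {Γ : Subgroup (MulAut Q)},
      EPT A Γ → ∀ {F : Type} [Field F] [Fintype F] {q p : ℕ}, Fintype.card F = q ^ 2 → p.Prime → CharP F p → 3 ≤ p →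
      Model Q (Cfsg.GU 10 F q ⊓ Cfsg.Geo.specialLinear (Fin 10) F) → HasSoc A (Cfsg.PSU 4 F q) → False)
    (hown5 : ∀ {Q : Type} [Group Q] [Finite Q], IsSimpleGroup Q → ∀ {A : Subgroup Q} {Γ : Subgroup (MulAut Q)},
      EPT A Γ → ∀ {F : Type} [Field F] [Fintype F] {q : ℕ}, Fintype.card F = q ^ 2 →
      Model Q (Cfsg.GU 10 F q ⊓ Cfsg.Geo.specialLinear (Fin 10) F) → HasSoc A (Cfsg.PSU 5 F q) → False)
    {F : Type} [Field F] [Fintype F] {q : ℕ} (hR : R5842 F q)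
    {Q : Type} [Group Q] [Finite Q] (hs : IsSimpleGroup Q) {A : Subgroup Q} {Γ : Subgroup (MulAut Q)} (h : EPT A Γ)
    (m : Model Q (Cfsg.GU 10 F q ⊓ Cfsg.Geo.specialLinear (Fin 10) F)) (hF : Fintype.card F = q ^ 2)
    (hres : Cfsg.Geo.InUnitaryResidualClass (m.hat A)) : False := by
  obtain ⟨P, p, hP, hp, hFp, hcase⟩ := hR _ (m.isMaximalIn h.max) hres
  have hsoc := hasSoc_of_core m hP
  have hp2 := hp.two_le
  rcases hcase with ⟨⟨e⟩, rfl, hq2, -⟩ | ⟨⟨e⟩, rfl, hq⟩ | ⟨⟨e⟩, rfl, hq⟩ | ⟨⟨e⟩, hq⟩ | ⟨⟨e⟩, hq⟩ | ⟨⟨e⟩⟩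
  · have h1 := index_ge (hsoc.congr e) aut_l219.le (index_l219 hs h (hsoc.congr e))
    have h2 := card_ten_le hF (by omega) m
    norm_num at h1 h2
    omega
  · have := finite_m12
    have h1 := index_ge (hsoc.congr e) aut_m12 (hM12 hs h (hsoc.congr e))
    have h2 := card_ten_le hF (by omega) m
    norm_num at h1 h2
    omega
  · have := finite_m22
    have h1 := index_ge (hsoc.congr e) aut_m22 (hM22 hs h (hsoc.congr e))
    have h2 := card_ten_le hF (by omega) m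
    norm_num at h1 h2
    omega
  · exact hown3 hs h hF hp hFp hq m (hsoc.congr e)
  · exact hown4 hs h hF hp hFp hq m (hsoc.congr e)
  · exact hown5 hs h hF m (hsoc.congr e)

end Cfsg.Agent.H587.EP.TenU
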