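import Cfsg.Agent.H587.EP.RowS5842
import Cfsg.Agent.H59.EP.UB
import Cfsg.Agent.FooteOdd.SporMTwelve

/-!
# S3499: index bounds for the socles `M_12`, `M_22`, and the row S5842 without them (helper587)

`index_list` : the bound UB1 + UB2 (helper173, helper59) for an almost simple `A` with given socle.
-/

set_option autoImplicit false

namespace Cfsg.Agent.H587.EP

open Subgroup Cfsg.Agent.H284 Cfsg.Agent.H419.EP Cfsg.Agent.H59.EP

universe u

theorem not_comm_of_card {L : Type*} [Group L] [Finite L] (hL : IsSimpleGroup L) (h : ¬ (Nat.card L).Prime) :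
    ¬ ∀ a b : L, a * b = b * a := by
  intro hc
  let _ : CommGroup L := { (inferInstance : Group L) with mul_comm := hc }
  exact h IsSimpleGroup.prime_card

/-- UB1 + UB2 for `|A|` given by its factorisation -/
theorem index_list {Q : Type u} [Group Q] [Finite Q] (hs : IsSimpleGroup Q) {A : Subgroup Q}
    {Γ : Subgroup (MulAut Q)} (h : EPT A Γ) (hg : TwoGen.{u}) {L : Type*} [Group L] [Finite L] (hA : HasSoc A L)
    (hL : IsSimpleGroup L) (hLp : ¬ (Nat.card L).Prime) (l : List (ℕ × ℕ)) (h1 : ∀ x ∈ l, x.1.Prime ∧ 0 < x.2)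
    (h2 : (l.map Prod.fst).Nodup) (h5 : ∀ x ∈ l, 5 ≤ x.1 → x.2 = 1) {n : ℕ} (hA' : Nat.card A = n)
    (hc : n = (l.map fun x => x.1 ^ x.2).prod) :
    A.index ≤ 1 + ((l.map fun x => gal x.1 x.2).sum * (n / 6) + n ^ 2 / 60) * (2 * (n / 6)) := by
  subst hA'
  have hab : ∀ K : Subgroup Q, K ≤ A → (∀ a ∈ A, ∀ k ∈ K, a * k * a⁻¹ ∈ K) → (∀ a ∈ K, ∀ b ∈ K, a * b = b * a) →
      K = ⊥ := fun K hK hKn hKa => hA.no_abelian hL (not_comm_of_card hL hLp) hK hKn hKa
  exact index_le_of (EPT.ncard_le_list h hg hab l h1 h2 h5 hc)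
    (Cfsg.Agent.H173.EP.ub1 hs h (by norm_num) fun _ hx => EPT.six_le h hab hx) le_rfl

/-- `|A| = |L|` or `2 |L|` -/
theorem card_eq_or {Q : Type*} [Group Q] [Finite Q] {A : Subgroup Q} {L : Type*} [Group L] [Finite L] (h : HasSoc A L)
    {n : ℕ} (hn : Nat.card L = n) (hc : Nat.card (MulAut L) ≤ n * 2) : Nat.card A = n ∨ Nat.card A = n * 2 := by
  obtain ⟨k, hk⟩ := h.card_dvd
  rw [hn] at hk
  have h0 : 0 < Nat.card L := Nat.card_pos
  have h1 : Nat.card A ≤ n * 2 := h.card_le.trans hc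
  have h2 : 0 < Nat.card A := Nat.card_pos
  rw [hk] at h1 h2 ⊢
  rw [hn] at h0
  have h3 : k ≤ 2 := Nat.le_of_mul_le_mul_left h1 h0
  have h4 : k ≠ 0 := by
    rintro rfl
    simp at h2
  have h5 : k = 1 ∨ k = 2 := by omega
  rcases h5 with rfl | rfl
  · left
    rw [mul_one]
  · right
    rfl

theorem index_m12 {Q : Type u} [Group Q] [Finite Q] (hs : IsSimpleGroup Q) {A : Subgroup Q}
    {Γ : Subgroup (MulAut Q)} (h : EPT A Γ) (hg : TwoGen.{u}) (hA : HasSoc A Cfsg.Spor.M12) : A.index ≤ 10 ^ 15 := by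
  have := TenU.finite_m12
  have hc : Nat.card Cfsg.Spor.M12 = 95040 := Cfsg.Agent.MTwelveType.SylowModel.card_M12
  have hp : ¬ (Nat.card Cfsg.Spor.M12).Prime := by rw [hc]; norm_num
  rcases card_eq_or hA hc TenU.aut_m12 with h1 | h1
  · exact (index_list hs h hg hA Cfsg.Agent.FooteOdd.SporMTwelve.simple hp [(2, 6), (3, 3), (5, 1), (11, 1)]
      (by decide) (by decide) (by decide) h1 (by norm_num)).trans (by decide)
  · exact (index_list hs h hg hA Cfsg.Agent.FooteOdd.SporMTwelve.simple hp [(2, 7), (3, 3), (5, 1), (11, 1)]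
      (by decide) (by decide) (by decide) h1 (by norm_num)).trans (by decide)

theorem index_m22 {Q : Type u} [Group Q] [Finite Q] (hs : IsSimpleGroup Q) {A : Subgroup Q}
    {Γ : Subgroup (MulAut Q)} (h : EPT A Γ) (hg : TwoGen.{u}) (hA : HasSoc A Cfsg.Spor.M22) : A.index ≤ 10 ^ 17 := by
  have := TenU.finite_m22
  have hc : Nat.card Cfsg.Spor.M22 = 443520 := Cfsg.Agent.SporadicA.MathieuRecog.card_M22
  have hp : ¬ (Nat.card Cfsg.Spor.M22).Prime := by rw [hc]; norm_num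
  rcases card_eq_or hA hc TenU.aut_m22 with h1 | h1
  · exact (index_list hs h hg hA Cfsg.Agent.SporadicA.MathieuRecog.simple_M22 hp
      [(2, 7), (3, 2), (5, 1), (7, 1), (11, 1)] (by decide) (by decide) (by decide) h1 (by norm_num)).trans (by decide)
  · exact (index_list hs h hg hA Cfsg.Agent.SporadicA.MathieuRecog.simple_M22 hp
      [(2, 8), (3, 2), (5, 1), (7, 1), (11, 1)] (by decide) (by decide) (by decide) h1 (by norm_num)).trans (by decide)

/-- **Row S5842**, only the own characteristic cases are left. -/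
theorem TenU.row_own (hg : TwoGen.{0})
    (hown3 : ∀ {Q : Type} [Group Q] [Finite Q], IsSimpleGroup Q → ∀ {A : Subgroup Q} {Γ : Subgroup (MulAut Q)},
      EPT A Γ → ∀ {F : Type} [Field F] [Fintype F] {q p : ℕ}, Fintype.card F = q ^ 2 → p.Prime → CharP F p → 5 ≤ p →
      Model Q (Cfsg.GU 10 F q ⊓ Cfsg.Geo.specialLinear (Fin 10) F) → HasSoc A (Cfsg.PSU 3 F q) → False)
    (hown4 : ∀ {Q : Type} [Group Q] [Finite Q], IsSimpleGroup Q → ∀ {A : Subgroup Q} {Γ : Subgroup (MulAut Q)},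
      EPT A Γ → ∀ {F : Type} [Field F] [Fintype F] {q p : ℕ}, Fintype.card F = q ^ 2 → p.Prime → CharP F p → 3 ≤ p →
      Model Q (Cfsg.GU 10 F q ⊓ Cfsg.Geo.specialLinear (Fin 10) F) → HasSoc A (Cfsg.PSU 4 F q) → False)
    (hown5 : ∀ {Q : Type} [Group Q] [Finite Q], IsSimpleGroup Q → ∀ {A : Subgroup Q} {Γ : Subgroup (MulAut Q)},
      EPT A Γ → ∀ {F : Type} [Field F] [Fintype F] {q : ℕ}, Fintype.card F = q ^ 2 →
      Model Q (Cfsg.GU 10 F q ⊓ Cfsg.Geo.specialLinear (Fin 10) F) → HasSoc A (Cfsg.PSU 5 F q) → False)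
    {F : Type} [Field F] [Fintype F] {q : ℕ} (hR : TenU.R5842 F q)
    {Q : Type} [Group Q] [Finite Q] (hs : IsSimpleGroup Q) {A : Subgroup Q} {Γ : Subgroup (MulAut Q)} (h : EPT A Γ)
    (m : Model Q (Cfsg.GU 10 F q ⊓ Cfsg.Geo.specialLinear (Fin 10) F)) (hF : Fintype.card F = q ^ 2)
    (hres : Cfsg.Geo.InUnitaryResidualClass (m.hat A)) : False :=
  TenU.row_of (fun {_} _ _ hs {_} {_} h hA => (index_m12 hs h hg hA).trans (by norm_num))
    (fun {_} _ _ hs {_} {_} h hA => (index_m22 hs h hg hA).trans (by norm_num))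
    hown3 hown4 hown5 hR hs h m hF hres

end Cfsg.Agent.H587.EP
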